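import Groth.Agent.Dev46.Scheme
import Groth.Agent.Props58.Ext.FPExt
import Groth.Agent.QC70.ExtZero
import Groth.Agent.QCqs72.Basic
import Mathlib.CategoryTheory.Limits.Preserves.Shapes.Kernels
import Mathlib.CategoryTheory.Abelian.Basic

/-!
The localisation sequence of Grothendieck groups of coherent modules.
-/

set_option autoImplicit false
set_option linter.unusedSectionVars false
set_option linter.style.haveILetI false
set_option linter.overlappingInstances false
set_option backward.isDefEq.respectTransparency.types false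

noncomputable section

universe u

open CategoryTheory CategoryTheory.Limits AlgebraicGeometry TopologicalSpace

namespace Groth.Agent.KLoc46

open Dev46 QC70

variable {X U : Scheme.{u}} [IsNoetherian X] (j : U ⟶ X) [IsOpenImmersion j]

/-- Classes of coherent modules supported off the open. -/
def offSub : AddSubgroup (KZero.K0sub (cohP X)) :=
  AddSubgroup.closure ((fun M => KZero.clSub (cohP X) M) ''
    {M | Coh.IsCoh M ∧ CohB1.support M ⊆ (Set.range j)ᶜ})

variable {j}

theorem clSub_sub_mem {A B : X.Modules} (φ : A ⟶ B) (hA : Coh.IsCoh A) (hB : Coh.IsCoh B)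
    [IsIso ((Scheme.Modules.restrictFunctor j).map φ)] : KZero.clSub (cohP X) A - KZero.clSub (cohP X) B ∈ offSub j := by
  obtain ⟨h₁, h₂, h₃⟩ := prop_image (Q := cohP X) φ hA hB
  have hb : ∀ v : U, Function.Bijective (stalkMapM φ (j v)) := fun v =>
    (bijective_stalkMapM_restrict_iff j φ v).1 (bijective_stalkMapM_of_isIso ((Scheme.Modules.restrictFunctor j).map φ) v)
  have hk : CohB1.support (kernel φ) ⊆ (Set.range j)ᶜ := by
    rintro _ hx ⟨v, rfl⟩
    refine hx (subsingleton_of_forall_eq 0 fun e => ?_)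
    have key : ∀ c, stalkMapM φ (j v) (stalkMapM (kernel.ι φ) (j v) c) = 0 := fun c => by
      obtain ⟨W, hW, s, rfl⟩ := germM_exist c
      rw [← stalkMapM_comp, kernel.condition, stalkMapM_germ]
      exact (congrArg (germM B W (j v) hW) (by rfl : (0 : kernel φ ⟶ B).app W s = 0)).trans
        (germM_zero hW)
    exact injective_stalkMapM_of_mono (kernel.ι φ) (j v) ((hb v).1 ((key e).trans (key 0).symm))
  have hc : CohB1.support (cokernel φ) ⊆ (Set.range j)ᶜ := by
    rintro _ hx ⟨v, rfl⟩
    exact hx (subsingleton_stalk_cokernel φ _ (hb v).2)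
  have e₁ : KZero.clSub (cohP X) A = KZero.clSub (cohP X) (kernel φ) +
      KZero.clSub (cohP X) (kernel (cokernel.π φ)) :=
    KDer46.clSub_add _ (shortExact_ker φ) h₁ hA h₂
  have e₂ : KZero.clSub (cohP X) B = KZero.clSub (cohP X) (kernel (cokernel.π φ)) +
      KZero.clSub (cohP X) (cokernel φ) :=
    KDer46.clSub_add _ (shortExact_coker φ) h₂ hB h₃
  rw [e₁, e₂]
  convert (offSub j).sub_mem (AddSubgroup.subset_closure ⟨_, ⟨h₁, hk⟩, rfl⟩)
    (AddSubgroup.subset_closure ⟨_, ⟨h₃, hc⟩, rfl⟩) using 1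
  abel

variable (j)

theorem exists_coh_extension {F : U.Modules} (hF : Coh.IsCoh F) :
    ∃ G : X.Modules, Coh.IsCoh G ∧ Nonempty ((Scheme.Modules.restrictFunctor j).obj G ≅ F) := by
  haveI := hF.1
  haveI := hF.2
  haveI : ((Scheme.Modules.pushforward j).obj F).IsQuasicoherent :=
    QCqs72.isQuasicoherent_pushforward (M := F) j
  obtain ⟨H₁, ι, hι, hq, hft, hbij⟩ := Props58.Ext.exists_fg_sub ((Scheme.Modules.pushforward j).obj F)
    (W := j.opensRange) (NoetherianSpace.isCompact _) fun D hD hDW => by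
      haveI : IsIso (j.app D) := j.isIso_app D hDW
      have hD' : IsAffineOpen (j ⁻¹ᵁ D) := hD.preimage_of_isOpenImmersion j hDW
      have hfin : Module.Finite Γ(U, j ⁻¹ᵁ D) Γ(F, j ⁻¹ᵁ D) := finite_sections_of_isFiniteType F hD'
      classical
      obtain ⟨S, hS⟩ := hfin.fg_top
      let S' : Finset Γ((Scheme.Modules.pushforward j).obj F, D) :=
        Finset.image (fun s : Γ(F, j ⁻¹ᵁ D) => (s : Γ((Scheme.Modules.pushforward j).obj F, D))) S
      refine ⟨⟨S', eq_top_iff.mpr fun t _ => ?_⟩⟩
      have hspan : (t : Γ(F, j ⁻¹ᵁ D)) ∈ Submodule.span Γ(U, j ⁻¹ᵁ D) (S : Set Γ(F, j ⁻¹ᵁ D)) :=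
        hS ▸ trivial
      refine Submodule.span_induction
        (p := fun (y : Γ(F, j ⁻¹ᵁ D)) _ => (y : Γ((Scheme.Modules.pushforward j).obj F, D)) ∈
          Submodule.span Γ(X, D) (S' : Set Γ((Scheme.Modules.pushforward j).obj F, D)))
        (fun y hy => Submodule.subset_span (Finset.mem_coe.mpr (Finset.mem_image.mpr ⟨y, hy, rfl⟩)))
        (zero_mem _) (fun _ _ _ _ hy hz => add_mem hy hz) (fun c y _ hy => ?_) hspan
      obtain ⟨c', rfl⟩ := (ConcreteCategory.bijective_of_isIso (j.app D)).2 c
      rw [← QCqs72.pushforward_smul]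
      exact Submodule.smul_mem _ c' hy
  refine ⟨H₁, ⟨hq, hft⟩, ⟨?_⟩⟩
  haveI : IsIso ((Scheme.Modules.restrictFunctor j).map ι) := by
    rw [Scheme.Modules.Hom.isIso_iff_isIso_app]
    exact fun V => (ConcreteCategory.isIso_iff_bijective _).2 (hbij _ (j.image_le_opensRange V))
  exact asIso ((Scheme.Modules.restrictFunctor j).map ι) ≪≫ asIso ((Scheme.Modules.restrictAdjunction j).counit.app F)

variable [PreservesFiniteLimits (Scheme.Modules.restrictFunctor j)]
  (hj : ∀ M : X.Modules, Coh.IsCoh M → Coh.IsCoh ((Scheme.Modules.restrictFunctor j).obj M))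

theorem isIso_map_unit (M : X.Modules) :
    IsIso ((Scheme.Modules.restrictFunctor j).map ((Scheme.Modules.restrictAdjunction j).unit.app M)) :=
  IsIso.of_isIso_fac_right ((Scheme.Modules.restrictAdjunction j).left_triangle_components M)

include hj in
theorem clSub_sub_mem_of_iso {G G' : X.Modules} (hG : Coh.IsCoh G) (hG' : Coh.IsCoh G')
    (e : (Scheme.Modules.restrictFunctor j).obj G ≅ (Scheme.Modules.restrictFunctor j).obj G') :
    KZero.clSub (cohP X) G - KZero.clSub (cohP X) G' ∈ offSub j := by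
  let adj := Scheme.Modules.restrictAdjunction j
  let f : G ⟶ (Scheme.Modules.pushforward j).obj ((Scheme.Modules.restrictFunctor j).obj G') :=
    adj.unit.app G ≫ (Scheme.Modules.pushforward j).map e.hom
  let g : G' ⟶ (Scheme.Modules.pushforward j).obj ((Scheme.Modules.restrictFunctor j).obj G') := adj.unit.app G'
  haveI := (hj G' hG').1
  have hq : Coh.IsQCoh ((Scheme.Modules.pushforward j).obj ((Scheme.Modules.restrictFunctor j).obj G')) :=
    QCqs72.isQuasicoherent_pushforward (M := (Scheme.Modules.restrictFunctor j).obj G') j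
  have hb : Coh.IsCoh (G ⊞ G') :=
    QC70.isCoh_X₂ _ (ShortComplex.Splitting.ofHasBinaryBiproduct G G').shortExact hG hG'
  let eP := IsLimit.conePointUniqueUpToIso (kernelIsKernel (biprod.desc f (-g)))
      (Abelian.PullbackToBiproductIsKernel.isLimitPullbackToBiproduct f g)
  have hP : Coh.IsCoh (pullback f g) := QC70.isCoh_of_iso eP (QC70.isCoh_kernel _ hb hq)
  have hg : IsIso ((Scheme.Modules.restrictFunctor j).map g) := isIso_map_unit j G'
  have hf : IsIso ((Scheme.Modules.restrictFunctor j).map f) := by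
    haveI := isIso_map_unit j G
    rw [Functor.map_comp]
    infer_instance
  have hsq := (IsPullback.of_hasPullback f g).map (Scheme.Modules.restrictFunctor j)
  haveI : IsIso ((Scheme.Modules.restrictFunctor j).map (pullback.fst f g)) := hsq.isIso_fst_of_isIso
  haveI : IsIso ((Scheme.Modules.restrictFunctor j).map (pullback.snd f g)) := hsq.isIso_snd_of_isIso
  have h₁ := clSub_sub_mem (j := j) (pullback.fst f g) hP hG
  have h₂ := clSub_sub_mem (j := j) (pullback.snd f g) hP hG'
  convert (offSub j).sub_mem h₂ h₁ using 1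
  abel

/-- A chosen coherent extension. -/
def ext (F : Subtype (cohP U)) : X.Modules := (exists_coh_extension j F.2).choose

theorem isCoh_ext (F : Subtype (cohP U)) : Coh.IsCoh (ext j F) :=
  (exists_coh_extension j F.2).choose_spec.1

/-- The chosen extension restricts to the given module. -/
def extIso (F : Subtype (cohP U)) : (Scheme.Modules.restrictFunctor j).obj (ext j F) ≅ F.1 :=
  (exists_coh_extension j F.2).choose_spec.2.some

/-- The inverse of restriction modulo classes supported off the open. -/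
def extHom : KZero.K0sub (cohP U) →+ KZero.K0sub (cohP X) ⧸ offSub j :=
  QuotientAddGroup.lift _ (FreeAbelianGroup.lift fun F =>
    QuotientAddGroup.mk (KZero.clSub (cohP X) (ext j F))) (by
    rw [KZero.relSub, AddSubgroup.closure_le]
    rintro _ ⟨S, h₁, h₂, h₃, hS, rfl⟩
    rw [SetLike.mem_coe, AddMonoidHom.mem_ker, map_sub, map_sub, FreeAbelianGroup.lift_apply_of,
      FreeAbelianGroup.lift_apply_of, FreeAbelianGroup.lift_apply_of]
    let adj := Scheme.Modules.restrictAdjunction j
    let G₂ := ext j ⟨S.X₂, h₂⟩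
    let e₂ : (Scheme.Modules.restrictFunctor j).obj G₂ ≅ S.X₂ := extIso j ⟨S.X₂, h₂⟩
    haveI : S.X₃.IsQuasicoherent := h₃.1
    let a : G₂ ⟶ (Scheme.Modules.pushforward j).obj S.X₃ := adj.homEquiv _ _ (e₂.hom ≫ S.g)
    have ha : (Scheme.Modules.restrictFunctor j).map a ≫ adj.counit.app S.X₃ = e₂.hom ≫ S.g :=
      (adj.homEquiv_counit (g := a)).symm.trans ((adj.homEquiv _ _).symm_apply_apply _)
    have hK : Coh.IsCoh (kernel a) :=
      QC70.isCoh_kernel a (isCoh_ext j _) (QCqs72.isQuasicoherent_pushforward (M := S.X₃) j)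
    have hQ : Coh.IsCoh (cokernel (kernel.ι a)) :=
      QC70.isCoh_cokernel _ hK.1 (isCoh_ext j _)
    haveI : (Scheme.Modules.restrictFunctor j).Additive := adj.left_adjoint_additive
    haveI : PreservesColimitsOfSize.{0, 0} (Scheme.Modules.restrictFunctor j) := adj.leftAdjoint_preservesColimits
    let iK : (Scheme.Modules.restrictFunctor j).obj (kernel a) ≅ S.X₁ := PreservesKernel.iso (Scheme.Modules.restrictFunctor j) a ≪≫
      kernel.mapIso ((Scheme.Modules.restrictFunctor j).map a) S.g e₂ (asIso (adj.counit.app S.X₃)) ha ≪≫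
        IsLimit.conePointUniqueUpToIso (kernelIsKernel S.g) hS.fIsKernel
    have hiK : iK.hom ≫ S.f = (Scheme.Modules.restrictFunctor j).map (kernel.ι a) ≫ e₂.hom := by
      have h := IsLimit.conePointUniqueUpToIso_hom_comp (kernelIsKernel S.g) hS.fIsKernel
        WalkingParallelPair.zero
      simp only [Fork.ofι_π_app] at h
      simp only [iK, Iso.trans_hom, Category.assoc, h, kernel.mapIso_hom, kernel.lift_ι,
        PreservesKernel.iso_hom, kernelComparison_comp_ι_assoc]
    let iQ : (Scheme.Modules.restrictFunctor j).obj (cokernel (kernel.ι a)) ≅ S.X₃ := PreservesCokernel.iso (Scheme.Modules.restrictFunctor j) (kernel.ι a) ≪≫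
      cokernel.mapIso ((Scheme.Modules.restrictFunctor j).map (kernel.ι a)) S.f iK e₂ hiK.symm ≪≫
        IsColimit.coconePointUniqueUpToIso (cokernelIsCokernel S.f) hS.gIsCokernel
    have hS' : (ShortComplex.mk (kernel.ι a) (cokernel.π (kernel.ι a))
        (cokernel.condition _)).ShortExact :=
      { exact := ShortComplex.exact_of_g_is_cokernel _ (cokernelIsCokernel _) }
    have e : KZero.clSub (cohP X) G₂ =
        KZero.clSub (cohP X) (kernel a) + KZero.clSub (cohP X) (cokernel (kernel.ι a)) :=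
      KDer46.clSub_add _ hS' hK (isCoh_ext j _) hQ
    have d₁ := clSub_sub_mem_of_iso j hj hK (isCoh_ext j ⟨S.X₁, h₁⟩) (iK ≪≫ (extIso j ⟨S.X₁, h₁⟩).symm)
    have d₃ := clSub_sub_mem_of_iso j hj hQ (isCoh_ext j ⟨S.X₃, h₃⟩) (iQ ≪≫ (extIso j ⟨S.X₃, h₃⟩).symm)
    rw [← QuotientAddGroup.mk_sub, ← QuotientAddGroup.mk_sub, QuotientAddGroup.eq_zero_iff]
    change KZero.clSub (cohP X) G₂ - _ - _ ∈ offSub j
    rw [e]
    convert (offSub j).add_mem d₁ d₃ using 1
    abel)

end Groth.Agent.KLoc46
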