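import Groth.Agent.KLoc46.Main

/-!
Exactness of the localisation sequence.
-/

set_option autoImplicit false
set_option linter.unusedSectionVars false
set_option linter.style.haveILetI false
set_option linter.overlappingInstances false
set_option backward.isDefEq.respectTransparency.types false

noncomputable section

universe u

open CategoryTheory CategoryTheory.Limits AlgebraicGeometry TopologicalSpace

namespace Groth.Agent.KLoc46

open Dev46 QC70

variable {X X' U : Scheme.{u}} [IsNoetherian X] (i : X' ⟶ X) [IsClosedImmersion i]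
  (j : U ⟶ X) [IsOpenImmersion j]
  [(Scheme.Modules.pushforward i).Additive] [PreservesFiniteLimits (Scheme.Modules.pushforward i)]
  [PreservesFiniteColimits (Scheme.Modules.pushforward i)]
  [PreservesFiniteLimits (Scheme.Modules.restrictFunctor j)]
  (hi : ∀ M : X'.Modules, Coh.IsCoh M → Coh.IsCoh ((Scheme.Modules.pushforward i).obj M))
  (hj : ∀ M : X.Modules, Coh.IsCoh M → Coh.IsCoh ((Scheme.Modules.restrictFunctor j).obj M))

theorem mapSub_clSub {A B : Type (u + 1)} [Category.{u} A] [Abelian A] [Category.{u} B] [Abelian B]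
    (F : A ⥤ B) [F.Additive] [PreservesFiniteLimits F] [PreservesFiniteColimits F]
    (P : ObjectProperty A) (Q : ObjectProperty B) (h : ∀ M, P M → Q (F.obj M)) {M : A} (hM : P M) :
    SGA6.mapSub F P Q h (KZero.clSub P M) = KZero.clSub Q (F.obj M) :=
  (congrArg _ (KDer46.clSub_eq hM)).trans
    ((congrArg QuotientAddGroup.mk (FreeAbelianGroup.map_of_apply _)).trans
      (KDer46.clSub_eq (P := Q) (h M hM)).symm)

include hi in
theorem clSub_mem_range {M : X.Modules} (hM : Coh.IsCoh M) (hs : CohB1.support M ⊆ Set.range i) :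
    KZero.clSub (cohP X) M ∈
      (SGA6.mapSub (Scheme.Modules.pushforward i) (cohP X') (cohP X) hi).range := by
  haveI : IsLocallyNoetherian X' := LocallyOfFiniteType.isLocallyNoetherian i
  obtain ⟨n, hn⟩ := exists_iter i hM hs
  clear hs hM
  induction n generalizing M with
  | zero =>
    haveI := Dev46.isIso_unit i hn
    refine ⟨KZero.clSub (cohP X') ((Scheme.Modules.pullback i).obj M), ?_⟩
    rw [mapSub_clSub _ _ _ hi (Dev46.isCoh_pullback i hn.1)]
    exact KDer46.clSub_iso
      (asIso ((Scheme.Modules.pullbackPushforwardAdjunction i).unit.app M)).symm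
  | succ n ih =>
    obtain ⟨hM, A, G, f, p, w, hS, hA, hG⟩ := hn
    have e : KZero.clSub (cohP X) M = KZero.clSub (cohP X) A + KZero.clSub (cohP X) G :=
      KDer46.clSub_add _ hS ((closed_iter (closed_killed i) n).le _ hA) hM
        ((closed_iter (closed_killed i) n).le _ hG)
    rw [e]
    exact add_mem (ih hA) (ih hG)

include hi in
theorem localization (hU : Set.range j = (Set.range i)ᶜ) :
    Function.Surjective (SGA6.mapSub (Scheme.Modules.restrictFunctor j) (cohP X) (cohP U) hj) ∧
      (SGA6.mapSub (Scheme.Modules.restrictFunctor j) (cohP X) (cohP U) hj).ker =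
        (SGA6.mapSub (Scheme.Modules.pushforward i) (cohP X') (cohP X) hi).range := by
  haveI : IsLocallyNoetherian U := AlgebraicGeometry.isLocallyNoetherian_of_isOpenImmersion j
  haveI : IsLocallyNoetherian X' := LocallyOfFiniteType.isLocallyNoetherian i
  let lam := SGA6.mapSub (Scheme.Modules.restrictFunctor j) (cohP X) (cohP U) hj
  refine ⟨fun x => ?_, le_antisymm (fun x hx => ?_) ?_⟩
  · obtain ⟨z, rfl⟩ := QuotientAddGroup.mk_surjective x
    induction z using FreeAbelianGroup.induction_on with
    | zero => exact ⟨0, map_zero lam⟩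
    | of F =>
      refine ⟨KZero.clSub (cohP X) (ext j F), ?_⟩
      rw [mapSub_clSub _ _ _ hj (isCoh_ext j F), KDer46.clSub_iso (extIso j F)]
      exact KDer46.clSub_eq F.2
    | neg z hz =>
      obtain ⟨a, ha⟩ := hz
      exact ⟨-a, by rw [map_neg, ha, QuotientAddGroup.mk_neg]⟩
    | add y z hy hz =>
      obtain ⟨a, ha⟩ := hy
      obtain ⟨b, hb⟩ := hz
      exact ⟨a + b, by rw [map_add, ha, hb, QuotientAddGroup.mk_add]⟩
  · have key : ∀ y, extHom j hj (lam y) = QuotientAddGroup.mk y := fun y => by
      obtain ⟨z, rfl⟩ := QuotientAddGroup.mk_surjective y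
      induction z using FreeAbelianGroup.induction_on with
      | zero => exact (congrArg (extHom j hj) (map_zero lam)).trans (map_zero _)
      | of M =>
        rw [← KDer46.clSub_eq M.2, mapSub_clSub _ _ _ hj M.2,
          KDer46.clSub_eq (P := cohP U) (hj M.1 M.2)]
        refine (FreeAbelianGroup.lift_apply_of _ _).trans ?_
        exact QuotientAddGroup.eq_iff_sub_mem.2
          (clSub_sub_mem_of_iso j hj (isCoh_ext j _) M.2 (extIso j ⟨_, hj M.1 M.2⟩))
      | neg z hz => rw [QuotientAddGroup.mk_neg, map_neg, map_neg, hz, QuotientAddGroup.mk_neg]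
      | add y z hy hz =>
        rw [QuotientAddGroup.mk_add, map_add, map_add, hy, hz, QuotientAddGroup.mk_add]
    have h0 : lam x = 0 := hx
    have hmem : x ∈ offSub j := (QuotientAddGroup.eq_zero_iff x).1
      ((key x).symm.trans ((congrArg (extHom j hj) h0).trans (map_zero _)))
    refine AddSubgroup.closure_le _ |>.2 ?_ hmem
    rintro _ ⟨M, ⟨hM, hs⟩, rfl⟩
    exact clSub_mem_range i hi hM (hs.trans (by rw [hU, compl_compl]))
  · rintro _ ⟨y, rfl⟩
    obtain ⟨z, rfl⟩ := QuotientAddGroup.mk_surjective y
    change lam _ = 0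
    induction z using FreeAbelianGroup.induction_on with
    | zero => exact (congrArg lam (map_zero _)).trans (map_zero _)
    | of N =>
      rw [← KDer46.clSub_eq N.2, mapSub_clSub _ _ _ hi N.2]
      refine (mapSub_clSub _ _ _ hj (hi _ N.2)).trans (KDer46.clSub_isZero ?_)
      haveI := N.2.2
      refine isZero_of_support_eq_empty (Set.eq_empty_iff_forall_notMem.2 fun v hv => hv ?_)
      have hsub : Subsingleton (((Scheme.Modules.pushforward i).obj N.1).presheaf.stalk (j v)) := by
        refine notMem_support_iff.1 fun h => ?_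
        have h' := QC70.support_pushforward_subset i N.1 h
        exact (hU.le ⟨v, rfl⟩ : j v ∈ (Set.range i)ᶜ) h'
      exact @Function.Injective.subsingleton _ _ _ (ConcreteCategory.bijective_of_isIso
        ((Scheme.Modules.restrictStalkNatIso j v).hom.app
          ((Scheme.Modules.pushforward i).obj N.1))).1 hsub
    | neg z hz => rw [QuotientAddGroup.mk_neg, map_neg, map_neg, hz, neg_zero]
    | add y z hy hz => rw [QuotientAddGroup.mk_add, map_add, map_add, hy, hz, add_zero]

end Groth.Agent.KLoc46
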